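import Cfsg.Agent.Lib.IterCores.Graded
import Cfsg.Agent.Lib.ChevStructure.Perfect

/-!
# Cores in the parabolic subgroup of `E8(2)` at the node of multiplicity six

`PP` is the maximal parabolic subgroup obtained by deleting the branch node, `n0` the fundamental
reflection at that node and `UU k` the roots of level at least `k`.
-/

set_option autoImplicit false
set_option maxRecDepth 100000

namespace Cfsg.Agent.Lib.IterCores.E8

open Cfsg.Lie Cfsg.Agent.Lib.ChevStructure Cfsg.Agent.Lib.IterCores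
open scoped MatrixGroups Matrix

/-- The field with two elements. -/
abbrev F2 : Type := ZMod 2

instance : Fact (Nat.Prime 2) := ⟨Nat.prime_two⟩

theorem commOK : CommOK Cert.E8.core := Cert.E8.core.commOK_mild mildE8

/-- The branch node. -/
abbrev j0 : Fin chevE8.rank := ⟨3, by decide +kernel⟩

/-- The weights of the level grading. -/
abbrev ωl : Fin chevE8.rank → ℤ := Pi.single j0 1

/-- A grading refining the level grading by the height. -/
abbrev ωh : Fin chevE8.rank → ℤ := fun m => if m = j0 then 100 else 1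

/-- The level of a root. -/
theorem lev_eq (r : Rt chevE8) : gr Cert.E8.core ωl r = Cert.E8.core.v r j0 := gr_single Cert.E8.core j0 r

/-! ### facts about the table -/

theorem lev_le_six : ∀ r : Rt chevE8, Cert.E8.core.v r j0 ≤ 6 := by decide +kernel

theorem exists_lev_six :
    ∃ r : Rt chevE8, chevE8.nroots ≤ 2 * r.val ∧ Cert.E8.core.v r j0 = 6 :=
  ⟨⟨239, by decide +kernel⟩, by decide +kernel, by decide +kernel⟩

theorem A_le_one : ∀ r : Rt chevE8, chevE8.nroots ≤ 2 * r.val → ∀ j : Fin chevE8.rank,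
    r ≠ Cert.E8.core.p j → A chevE8 j r ≤ 1 := by decide +kernel

theorem lev_lower : ∀ r : Rt chevE8, chevE8.nroots ≤ 2 * r.val → 1 ≤ Cert.E8.core.v r j0 →
    r ≠ Cert.E8.core.p j0 →
    (∃ j : Fin chevE8.rank, j ≠ j0 ∧ A chevE8 j r = 1) ∨
      (2 ≤ Cert.E8.core.v r j0 ∧ A chevE8 j0 r = 1) := by decide +kernel

theorem levi_lower : ∀ r : Rt chevE8, chevE8.nroots ≤ 2 * r.val → Cert.E8.core.v r j0 = 0 →
    ∃ j : Fin chevE8.rank, j ≠ j0 ∧ (r = Cert.E8.core.p j ∨ A chevE8 j r = 1) := by decide +kernel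

theorem exists_moved : ∀ j : Fin chevE8.rank, j ≠ j0 → ∃ r : Rt chevE8,
    chevE8.nroots ≤ 2 * r.val ∧ Cert.E8.core.v r j0 = 1 ∧ A chevE8 j r = 1 := by decide +kernel

/-! ### the subgroups -/

/-- The complement of the branch node. -/
abbrev J : Set ℕ := {i | i < chevE8.rank ∧ i ≠ 3}

/-- The parabolic subgroup. -/
abbrev PP : Subgroup (GL chevE8.Idx F2) := chevE8.parabolicSubgroup F2 J

/-- The terms of its radical. -/
noncomputable abbrev UU (k : ℤ) : Subgroup (GL chevE8.Idx F2) := Cert.E8.core.US F2 (above Cert.E8.core ωl k)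

/-- The reflection at the branch node. -/
noncomputable abbrev n0 : GL chevE8.Idx F2 := Cert.E8.core.P F2 j0

theorem val_ne {j : Fin chevE8.rank} (h : j ≠ j0) : (j : ℕ) ∈ J :=
  ⟨j.2, fun e => h (Fin.ext e)⟩

theorem HT_eq_one (c : Fin chevE8.rank → F2ˣ) : Cert.E8.core.HT F2 c = 1 := by
  rw [show c = 1 from funext fun _ => Subsingleton.elim _ _, Cert.E8.core.HT_one]

theorem P_mul_self (j : Fin chevE8.rank) : Cert.E8.core.P F2 j * Cert.E8.core.P F2 j = 1 := by
  obtain ⟨c, hc⟩ := Cert.E8.core.P_sq F2 j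
  rw [hc, HT_eq_one]

theorem P_inv (j : Fin chevE8.rank) : (Cert.E8.core.P F2 j)⁻¹ = Cert.E8.core.P F2 j :=
  inv_eq_of_mul_eq_one_right (P_mul_self j)

theorem borel_eq : chevE8.borelSubgroup F2 = Cert.E8.core.US F2 Cert.E8.core.Pos := by
  rw [Cert.E8.core.borel_eq, sup_eq_left]
  intro g hg
  obtain ⟨c, rfl⟩ := Cert.E8.core.mem_diagonal_iff.1 hg
  rw [HT_eq_one]
  exact one_mem _

theorem X_rev_notMem_pos (j : Fin chevE8.rank) {t : F2}
    (h : Cert.E8.core.X F2 (Cert.E8.core.p j).rev t ∈ Cert.E8.core.US F2 Cert.E8.core.Pos) : t = 0 :=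
  Cert.E8.core.X_neg_mem_borel (Cert.E8.core.rev_neg (Cert.E8.core.p_pos j)) (Cert.E8.core.posUS_le_borel h)

theorem X_mem_PP {r : Rt chevE8} (hr : r ∈ Cert.E8.core.Pos) (t : F2) : Cert.E8.core.X F2 r t ∈ PP :=
  Cert.E8.core.borel_le_parabolic J (Cert.E8.core.X_mem_borel hr t)

theorem posUS_le_PP : Cert.E8.core.US F2 Cert.E8.core.Pos ≤ PP := Cert.E8.core.posUS_le_borel.trans (Cert.E8.core.borel_le_parabolic J)

theorem n0_notMem : n0 ∉ PP := by
  intro h
  have hp : Cert.E8.core.p j0 ∈ Cert.E8.core.UJ J := ⟨Cert.E8.core.p_pos _, fun h' => by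
    have := Cert.E8.core.mem_PJ.1 h' j0 (fun hc => hc.2 rfl)
    simp [Cert.E8.core.co_p] at this⟩
  have h2 := (Subgroup.mem_normalizer_iff.1 (commOK.parabolic_le_normalizer J h) _).1
    (Cert.E8.core.X_mem_US F2 hp (1 : F2))
  rw [Cert.E8.core.P_X_conj, Cert.E8.core.w_p] at h2
  have := X_rev_notMem_pos j0 (Cert.E8.core.US_mono F2 (fun _ hr => hr.1) h2)
  simp [Cert.E8.core.η_p] at this

theorem X_rev_notMem_PP {t : F2} (h : Cert.E8.core.X F2 (Cert.E8.core.p j0).rev t ∈ PP) : t = 0 := by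
  by_contra ht
  have h1 : Cert.E8.core.X F2 (Cert.E8.core.p j0) 1 * Cert.E8.core.X F2 (Cert.E8.core.p j0).rev t * Cert.E8.core.X F2 (Cert.E8.core.p j0) 1 ∈ PP :=
    mul_mem (mul_mem (X_mem_PP (Cert.E8.core.p_pos j0) 1) h) (X_mem_PP (Cert.E8.core.p_pos j0) 1)
  have : Cert.E8.core.X F2 (Cert.E8.core.p j0) 1 * Cert.E8.core.X F2 (Cert.E8.core.p j0).rev t * Cert.E8.core.X F2 (Cert.E8.core.p j0) 1 = n0 := by
    have e : ∀ a : F2, a ≠ 0 → a = -(((1 : F2ˣ)⁻¹ : F2ˣ) : F2) := by decide
    show _ = Cert.E8.core.nR F2 (Cert.E8.core.p j0) 1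
    rw [Core.nR, e t ht, Units.val_one]
  exact n0_notMem (this ▸ h1)

theorem gr_lev_rev_le {r : Rt chevE8} (hr : r ∈ Cert.E8.core.Pos ∪ Cert.E8.core.PJ J) : 0 ≤ Cert.E8.core.v r j0 := by
  rcases hr with hr | hr
  · exact Cert.E8.core.v_nonneg hr j0
  · exact le_of_eq (Cert.E8.core.v_zero_of_PJ hr (fun hc => hc.2 rfl)).symm

theorem PP_le_normalizer {k : ℤ} (hk : 1 ≤ k) :
    PP ≤ Subgroup.normalizer (UU k : Set (GL chevE8.Idx F2)) := by
  rw [PP, Cert.E8.core.parabolic_eq_generated]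
  refine sup_le (Cert.E8.core.diag_le_normalizer _) ((Subgroup.closure_le _).2 ?_)
  rintro g ⟨r, hr, t, rfl⟩
  have h0 := gr_lev_rev_le hr
  refine commOK.mem_normalizer ⟨fun h => ?_, fun s hs _ q i j hi hj hv => ?_⟩ t
  · have h1 := h.2
    rw [lev_eq, Cert.E8.core.v_rev] at h1
    simp only [Pi.neg_apply] at h1
    omega
  · have hg : k ≤ gr Cert.E8.core ωl q := by
      rw [gr_combo Cert.E8.core ωl hv, lev_eq r]
      have h2 := hs.2
      have h3 : 0 ≤ (i : ℤ) * Cert.E8.core.v r j0 := mul_nonneg (by omega) h0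
      have h4 : 1 * gr Cert.E8.core ωl s ≤ (j : ℤ) * gr Cert.E8.core ωl s :=
        mul_le_mul_of_nonneg_right (by omega) (by omega)
      omega
    exact ⟨Cert.E8.core.pos_of_coord (m := j0) (by rw [← lev_eq]; omega), hg⟩

theorem UU_le_pos (k : ℤ) : UU k ≤ Cert.E8.core.US F2 Cert.E8.core.Pos := Cert.E8.core.US_mono F2 fun _ h => h.1

theorem UU_anti {k l : ℤ} (h : k ≤ l) : UU l ≤ UU k :=
  Cert.E8.core.US_mono F2 fun _ hr => ⟨hr.1, h.trans hr.2⟩

theorem above_zero : above Cert.E8.core ωl 0 = Cert.E8.core.Pos :=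
  Set.ext fun r => ⟨fun h => h.1, fun h => ⟨h, by rw [lev_eq]; exact Cert.E8.core.v_nonneg h j0⟩⟩

/-- The reflection at the branch node lowers levels by at most one. -/
theorem n0_conj_UU {k : ℤ} (hk : 2 ≤ k) {x : GL chevE8.Idx F2} (hx : x ∈ UU k) :
    n0 * x * n0⁻¹ ∈ UU (k - 1) := by
  refine conj_P_mem j0 (fun r hr => ?_) hx
  obtain ⟨hpos, hlev⟩ := hr
  have hne : r ≠ Cert.E8.core.p j0 := by
    rintro rfl
    rw [gr_p] at hlev
    simp at hlev
    omega
  have hA := A_le_one r hpos j0 hne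
  have hg := gr_w Cert.E8.core ωl j0 r
  simp only [Pi.single_eq_same, mul_one] at hg
  exact ⟨Cert.E8.core.w_pos hpos hne, by omega⟩

theorem UU_seven {k : ℤ} (hk : 7 ≤ k) : UU k = ⊥ := by
  refine eq_bot_iff.2 ((Subgroup.closure_le _).2 ?_)
  rintro g ⟨r, ⟨-, hr⟩, -⟩
  rw [lev_eq] at hr
  have := lev_le_six r
  omega

theorem UU_six_ne_bot : UU 6 ≠ ⊥ := by
  obtain ⟨r, hr, h6⟩ := exists_lev_six
  intro h
  have hm : Cert.E8.core.X F2 r 1 ∈ UU 6 := Cert.E8.core.X_mem_US F2 (show r ∈ above Cert.E8.core ωl 6 from ⟨hr, by rw [lev_eq, h6]⟩) 1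
  rw [h, Subgroup.mem_bot] at hm
  exact one_ne_zero (Cert.E8.core.X_eq_one hm)

/-- A subgroup inside `UU k`, normal in `PP`, whose image under `n0` stays in `UU k` (in `PP` if
`k = 1`) lies in `UU (k + 1)`. -/
theorem le_UU_succ {K : Subgroup (GL chevE8.Idx F2)} {k : ℤ} (hk : 1 ≤ k) (hle : K ≤ UU k)
    (hnorm : ∀ p ∈ PP, ∀ x ∈ K, p * x * p⁻¹ ∈ K)
    (hone : k = 1 → ∀ x ∈ K, n0 * x * n0⁻¹ ∈ PP)
    (htwo : 2 ≤ k → ∀ x ∈ K, n0 * x * n0⁻¹ ∈ UU k) : K ≤ UU (k + 1) := by
  have hcl := closedPos_above Cert.E8.core ωl (c := k) (by omega)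
  have hdiff : ∀ r ∈ Cert.E8.core.Pos, gr Cert.E8.core ωl r = k → ClosedPos Cert.E8.core (above Cert.E8.core ωl k \ {r}) := fun r _ h =>
    closedPos_above_diff Cert.E8.core ωl hk h.le
  have key : ∀ n : ℕ, ∀ r ∈ Cert.E8.core.Pos, gr Cert.E8.core ωl r = k → (Cert.E8.core.ht r).toNat = n →
      K ≤ Cert.E8.core.US F2 (above Cert.E8.core ωl k \ {r}) := by
    intro n
    induction n using Nat.strong_induction_on with
    | _ n ih =>
      intro r hr hrk hn x hx
      have hmem : r ∈ above Cert.E8.core ωl k := ⟨hr, hrk.ge⟩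
      by_cases hp : r = Cert.E8.core.p j0
      · subst hp
        have hk1 : k = 1 := by rw [← hrk, gr_p]; simp
        exact mem_diff_simple commOK hcl j0 hmem PP posUS_le_PP (fun t => X_rev_notMem_PP)
          (hle hx) (hone hk1 x hx)
      rcases lev_lower r hr (by rw [← lev_eq]; omega) hp with ⟨j, hj, hA⟩ | ⟨hl2, hA⟩
      · have hne : r ≠ Cert.E8.core.p j := by
          rintro rfl
          rw [gr_p] at hrk
          simp [hj] at hrk
          omega
        have hg : gr Cert.E8.core ωl (Cert.E8.core.w j r) = k := by rw [gr_w, hrk]; simp [hj]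
        have hlt := Cert.E8.core.ht_w_lt (r := r) (j := j) (by omega)
        have hwpos := Cert.E8.core.w_pos hr hne
        have h1 := ih (Cert.E8.core.ht (Cert.E8.core.w j r)).toNat (by have := Cert.E8.core.ht_pos hwpos; omega) _ hwpos hg rfl
        refine mem_diff_of_conj commOK hcl hmem j (hdiff _ hwpos hg) (fun h => h.2 rfl) hwpos ?_
          (hle hx) (h1 (hnorm _ (Cert.E8.core.P_mem_parabolic (val_ne hj)) x hx))
        intro q hq hqr
        have hqp : q ≠ Cert.E8.core.p j := by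
          rintro rfl
          have := hq.2
          rw [gr_p] at this
          simp [hj] at this
          omega
        refine ⟨⟨Cert.E8.core.w_pos hq.1 hqp, ?_⟩, fun e => hqr ?_⟩
        · rw [gr_w]; simpa [hj] using hq.2
        · have := congrArg (Cert.E8.core.w j) (Set.mem_singleton_iff.1 e)
          rwa [Cert.E8.core.w_w, Cert.E8.core.w_w] at this
      · have hk2 : 2 ≤ k := by rw [← hrk, lev_eq]; exact hl2
        have hg : gr Cert.E8.core ωl (Cert.E8.core.w j0 r) = k - 1 := by rw [gr_w, hrk, hA]; simp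
        have hT := closedPos_above_diff Cert.E8.core ωl (c := k - 1) (by omega) hg.le
        refine mem_diff_of_conj commOK hcl hmem j0 hT (fun h => h.2 rfl) (Cert.E8.core.w_pos hr hp) ?_ (hle hx)
          (Cert.E8.core.US_mono F2 ?_ (htwo hk2 x hx))
        · intro q hq hqr
          have hqp : q ≠ Cert.E8.core.p j0 := by
            rintro rfl
            have := hq.2
            rw [gr_p] at this
            simp at this
            omega
          refine ⟨⟨Cert.E8.core.w_pos hq.1 hqp, ?_⟩, fun e => hqr ?_⟩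
          · have := hq.2
            have := A_le_one q hq.1 j0 hqp
            rw [gr_w]
            simp only [Pi.single_eq_same, mul_one]
            omega
          · have := congrArg (Cert.E8.core.w j0) (Set.mem_singleton_iff.1 e)
            rwa [Cert.E8.core.w_w, Cert.E8.core.w_w] at this
        · intro q hq
          refine ⟨⟨hq.1, by have := hq.2; omega⟩, fun e => ?_⟩
          rw [Set.mem_singleton_iff] at e
          have := hq.2
          rw [e, hg] at this
          omega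
  intro x hx
  have h := mem_US_diff commOK hcl (R := {r | gr Cert.E8.core ωl r = k})
    (fun r hr hrS => hdiff r hrS.1 hr) (hle hx)
    (fun r hr hrS => key _ r hrS.1 hr rfl hx)
  exact Cert.E8.core.US_mono F2 (T := above Cert.E8.core ωl (k + 1))
    (fun r hr => ⟨hr.1.1, lt_of_le_of_ne hr.1.2 (Ne.symm hr.2)⟩) h

theorem gr_h (r : Rt chevE8) :
    gr Cert.E8.core ωh r = 99 * Cert.E8.core.v r j0 + ∑ m, Cert.E8.core.v r m := by
  classical
  have : ∀ m, Cert.E8.core.v r m * ωh m =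
      99 * (Cert.E8.core.v r m * (Pi.single j0 1 : Fin chevE8.rank → ℤ) m) + Cert.E8.core.v r m := by
    intro m
    by_cases hm : m = j0
    · simp [ωh, hm]; ring
    · simp [ωh, hm]
  rw [gr, Finset.sum_congr rfl fun m _ => this m, Finset.sum_add_distrib, ← Finset.mul_sum]
  simp [Pi.single_apply, mul_ite]

theorem gr_h_levi : ∀ r : Rt chevE8, Cert.E8.core.v r j0 = 0 →
    ∑ m, Cert.E8.core.v r m < 99 := by decide +kernel

/-- A subgroup of the unipotent group normal in `PP` lies in the radical. -/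
theorem le_radical_of_le_pos {K : Subgroup (GL chevE8.Idx F2)} (hle : K ≤ Cert.E8.core.US F2 Cert.E8.core.Pos)
    (hnorm : ∀ p ∈ PP, ∀ x ∈ K, p * x * p⁻¹ ∈ K) : K ≤ UU 1 := by
  have hω : ∀ m, 0 ≤ ωh m := fun m => by unfold ωh; split_ifs <;> norm_num
  have hone : ∀ r ∈ Cert.E8.core.Pos, 1 ≤ gr Cert.E8.core ωh r := by
    intro r hr
    have hne : Cert.E8.core.v r ≠ 0 := by
      intro h0
      have := Cert.E8.core.ht_pos hr
      simp [Core.ht, phi, h0] at this
    obtain ⟨m, hm⟩ : ∃ m, Cert.E8.core.v r m ≠ 0 := by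
      by_contra hc; push Not at hc; exact hne (funext hc)
    refine le_trans ?_ (Finset.single_le_sum
      (fun i _ => mul_nonneg (Cert.E8.core.v_nonneg hr i) (hω i)) (Finset.mem_univ m))
    have := Cert.E8.core.v_nonneg hr m
    have : 1 ≤ ωh m := by unfold ωh; split_ifs <;> norm_num
    exact one_le_mul_of_one_le_of_one_le (by omega) this
  have step : ∀ c : ℕ, c ≤ 98 → K ≤ Cert.E8.core.US F2 (above Cert.E8.core ωh ((c : ℤ) + 1)) := by
    intro c
    induction c with
    | zero =>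
      intro _
      exact hle.trans (Cert.E8.core.US_mono F2 fun r hr => ⟨hr, by simpa using hone r hr⟩)
    | succ c ih =>
      intro hc x hx
      have hle' := ih (by omega)
      set c' : ℤ := (c : ℤ) + 1 with hc'
      have hcl := closedPos_above Cert.E8.core ωh (c := c') (by omega)
      have h := mem_US_diff commOK hcl (R := {r | gr Cert.E8.core ωh r = c'})
        (fun r hr _ => closedPos_above_diff Cert.E8.core ωh (by omega) (le_of_eq hr)) (hle' hx) ?_
      · exact Cert.E8.core.US_mono F2 (T := above Cert.E8.core ωh (((c + 1 : ℕ) : ℤ) + 1)) (fun r hr => ⟨hr.1.1, by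
          have := lt_of_le_of_ne hr.1.2 (Ne.symm hr.2)
          push_cast; omega⟩) h
      intro r hrR hrS
      have hrc : gr Cert.E8.core ωh r = c' := hrR
      have hlev : Cert.E8.core.v r j0 = 0 := by
        have h0 := Cert.E8.core.v_nonneg hrS.1 j0
        have h1 : (0 : ℤ) ≤ ∑ m, Cert.E8.core.v r m :=
          Finset.sum_nonneg fun m _ => Cert.E8.core.v_nonneg hrS.1 m
        rw [gr_h] at hrc
        omega
      obtain ⟨j, hj, hj'⟩ := levi_lower r hrS.1 hlev
      have hP := Cert.E8.core.P_mem_parabolic (F := F2) (val_ne hj)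
      by_cases hrp : r = Cert.E8.core.p j
      · subst hrp
        exact mem_diff_simple commOK hcl j hrS _ le_rfl (fun t => X_rev_notMem_pos j) (hle' hx)
          (hle (hnorm _ hP x hx))
      have hA : A chevE8 j r = 1 := hj'.resolve_left hrp
      have hωj : ωh j = 1 := if_neg hj
      have hwpos := Cert.E8.core.w_pos hrS.1 hrp
      have hgw : gr Cert.E8.core ωh (Cert.E8.core.w j r) = c' - 1 := by rw [gr_w, hrc, hA, hωj]; ring
      have h1w := hone _ hwpos
      have hT := closedPos_above_diff Cert.E8.core ωh (c := c' - 1) (by omega) hgw.le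
      refine mem_diff_of_conj commOK hcl hrS j hT (fun h => h.2 rfl) hwpos ?_ (hle' hx)
        (Cert.E8.core.US_mono F2 ?_ (hle' (hnorm _ hP x hx)))
      · intro q hq hqr
        have hqp : q ≠ Cert.E8.core.p j := by
          rintro rfl
          have := hq.2
          rw [gr_p, hωj] at this
          omega
        refine ⟨⟨Cert.E8.core.w_pos hq.1 hqp, ?_⟩, fun e => hqr ?_⟩
        · have := hq.2
          have := A_le_one q hq.1 j hqp
          rw [gr_w, hωj]
          omega
        · have := congrArg (Cert.E8.core.w j) (Set.mem_singleton_iff.1 e)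
          rwa [Cert.E8.core.w_w, Cert.E8.core.w_w] at this
      · intro q hq
        refine ⟨⟨hq.1, by have := hq.2; omega⟩, fun e => ?_⟩
        rw [Set.mem_singleton_iff] at e
        have := hq.2
        rw [e, hgw] at this
        omega
  refine (step 98 le_rfl).trans (Cert.E8.core.US_mono F2 fun r hr => ⟨hr.1, ?_⟩)
  rw [lev_eq]
  by_contra hc
  have h0 := Cert.E8.core.v_nonneg hr.1 j0
  have h1 := hr.2
  rw [gr_h, show Cert.E8.core.v r j0 = 0 by omega] at h1
  have := gr_h_levi r (by omega)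
  push_cast at h1
  omega

/-- The first core lies in the second term of the radical. -/
theorem le_UU_two {K : Subgroup (GL chevE8.Idx F2)} (hK : K ≤ PP)
    (hnorm : ∀ p ∈ PP, ∀ x ∈ K, p * x * p⁻¹ ∈ K) (hn0 : ∀ x ∈ K, n0 * x * n0⁻¹ ∈ PP) :
    K ≤ UU 2 := by
  have hPn := PP_le_normalizer (k := 1) le_rfl
  have hK1 : K ⊓ UU 1 ≤ UU 2 := by
    refine le_UU_succ (k := 1) le_rfl inf_le_right
      (fun p hp x hx => ⟨hnorm p hp x hx.1, (Subgroup.mem_normalizer_iff.1 (hPn hp) x).1 hx.2⟩)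
      (fun _ x hx => hn0 x hx.1) (fun h => absurd h (by norm_num))
  have htriv : ∀ z ∈ K, ∀ y ∈ UU 1, z * y * z⁻¹ * y⁻¹ ∈ UU 2 := by
    intro z hz y hy
    refine hK1 (Subgroup.mem_inf.2 ⟨?_, mul_mem ((Subgroup.mem_normalizer_iff.1 (hPn (hK hz)) y).1 hy) (inv_mem hy)⟩)
    have h := hnorm y (posUS_le_PP (UU_le_pos 1 hy)) z⁻¹ (inv_mem hz)
    have := mul_mem hz h
    rwa [← mul_assoc, ← mul_assoc] at this
  let B := chevE8.borelSubgroup F2
  have hBP : B ≤ PP := Cert.E8.core.borel_le_parabolic J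
  have hBn : B ≤ Subgroup.normalizer (K : Set (GL chevE8.Idx F2)) := by
    intro b hb
    rw [Subgroup.mem_normalizer_iff]
    refine fun x => ⟨hnorm b (hBP hb) x, fun h => ?_⟩
    have := hnorm b⁻¹ (inv_mem (hBP hb)) _ h
    simpa [mul_assoc] using this
  have hsup : ∀ g ∈ K ⊔ B, ∃ z ∈ K, ∃ b ∈ B, g = z * b := by
    intro g hg
    have : g ∈ ((K ⊔ B : Subgroup _) : Set (GL chevE8.Idx F2)) := hg
    rw [Subgroup.coe_mul_of_right_le_normalizer_left K B hBn] at this
    obtain ⟨z, hz, b, hb, rfl⟩ := this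
    exact ⟨z, hz, b, hb, rfl⟩
  have hMP : K ⊔ B ≤ PP := sup_le hK hBP
  have hM := commOK.eq_parabolic_of_borel_le (le_sup_right : B ≤ K ⊔ B)
    (hMP.trans (Cert.E8.core.parabolic_le_group J))
  have hnone : ∀ j : Fin chevE8.rank, Cert.E8.core.P F2 j ∉ K ⊔ B := by
    intro j hPM
    by_cases hj : j = j0
    · subst hj; exact n0_notMem (hMP hPM)
    obtain ⟨z, hz, b, hb, he⟩ := hsup _ hPM
    obtain ⟨r, hr, hlev, hA⟩ := exists_moved j hj
    have hωj : ωh j = 1 := if_neg hj
    have hne : r ≠ Cert.E8.core.p j := by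
      rintro rfl
      rw [show Cert.E8.core.v (Cert.E8.core.p j) j0 = (Pi.single j (1 : ℤ) : Fin chevE8.rank → ℤ) j0 from
        congrFun (Cert.E8.core.v_p j) j0] at hlev
      simp [Ne.symm hj] at hlev
    set c := gr Cert.E8.core ωh r with hc
    have hwpos := Cert.E8.core.w_pos hr hne
    have hgw : gr Cert.E8.core ωh (Cert.E8.core.w j r) = c - 1 := by rw [gr_w, hA, hωj, hc]; ring
    have hlevw : Cert.E8.core.v (Cert.E8.core.w j r) j0 = 1 := by
      rw [← lev_eq, gr_w, lev_eq, hlev]; simp [hj]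
    have hc100 : (100 : ℤ) ≤ c := by
      rw [hc, gr_h, hlev]
      have : Cert.E8.core.v r j0 ≤ ∑ m, Cert.E8.core.v r m :=
        Finset.single_le_sum (fun m _ => Cert.E8.core.v_nonneg hr m) (Finset.mem_univ j0)
      omega
    let T : Set (Rt chevE8) := above Cert.E8.core ωh c ∪ above Cert.E8.core ωl 2
    have hTpos : T ⊆ Cert.E8.core.Pos := fun q hq => hq.elim (fun h => h.1) (fun h => h.1)
    have hTabs : ∀ a ∈ Cert.E8.core.Pos, ∀ s ∈ T, ∀ (q : Rt chevE8) (i k : ℕ), 1 ≤ i → 1 ≤ k →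
        Cert.E8.core.v q = (i : ℤ) • Cert.E8.core.v a + (k : ℤ) • Cert.E8.core.v s → q ∈ T := by
      intro a ha s hs q i k hi hk hv
      have hq : q ∈ Cert.E8.core.Pos := (closedPos_pos Cert.E8.core).2 a ha s (hTpos hs) q i k hi hk hv
      rcases hs with hs | hs
      · refine Or.inl ⟨hq, ?_⟩
        rw [gr_combo Cert.E8.core ωh hv]
        have h1 : 0 ≤ (i : ℤ) * gr Cert.E8.core ωh a :=
          mul_nonneg (by omega) (gr_nonneg Cert.E8.core (fun m => by unfold ωh; split_ifs <;> norm_num) ha)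
        have h2 : 1 * gr Cert.E8.core ωh s ≤ (k : ℤ) * gr Cert.E8.core ωh s :=
          mul_le_mul_of_nonneg_right (by omega) (le_trans (by omega) hs.2)
        have := hs.2
        omega
      · refine Or.inr ⟨hq, ?_⟩
        rw [gr_combo Cert.E8.core ωl hv]
        have h1 : 0 ≤ (i : ℤ) * gr Cert.E8.core ωl a :=
          mul_nonneg (by omega) (by rw [lev_eq]; exact Cert.E8.core.v_nonneg ha j0)
        have h2 : 1 * gr Cert.E8.core ωl s ≤ (k : ℤ) * gr Cert.E8.core ωl s :=
          mul_le_mul_of_nonneg_right (by omega) (le_trans (by omega) hs.2)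
        have := hs.2
        omega
    have hTcl : ClosedPos Cert.E8.core T := ⟨hTpos, fun a ha s hs => hTabs a (hTpos ha) s hs⟩
    have hTn : Cert.E8.core.US F2 Cert.E8.core.Pos ≤ Subgroup.normalizer (Cert.E8.core.US F2 T : Set (GL chevE8.Idx F2)) := by
      refine (Subgroup.closure_le _).2 ?_
      rintro g ⟨a, ha, t, rfl⟩
      exact commOK.mem_normalizer
        (Cert.E8.core.absorb_of_closed (S := Cert.E8.core.Pos) subset_rfl hTpos hTabs ha) t
    have hX : Cert.E8.core.X F2 r 1 ∈ Cert.E8.core.US F2 T := Cert.E8.core.X_mem_US F2 (S := T) (Or.inl ⟨hr, le_rfl⟩) 1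
    have hX1 : Cert.E8.core.X F2 r 1 ∈ UU 1 :=
      Cert.E8.core.X_mem_US F2 (show r ∈ above Cert.E8.core ωl 1 from ⟨hr, by rw [lev_eq, hlev]⟩) 1
    set y := b * Cert.E8.core.X F2 r 1 * b⁻¹ with hy
    have hbT : y ∈ Cert.E8.core.US F2 T :=
      (Subgroup.mem_normalizer_iff.1 (hTn (borel_eq ▸ hb)) _).1 hX
    have hy1 : y ∈ UU 1 := (Subgroup.mem_normalizer_iff.1 (hPn (hBP hb)) _).1 hX1
    have hfin : Cert.E8.core.P F2 j * Cert.E8.core.X F2 r 1 * (Cert.E8.core.P F2 j)⁻¹ ∈ Cert.E8.core.US F2 T := by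
      rw [he, show z * b * Cert.E8.core.X F2 r 1 * (z * b)⁻¹ = z * y * z⁻¹ * y⁻¹ * y by rw [hy]; group]
      exact mul_mem (Cert.E8.core.US_mono F2 (fun q hq => Or.inr hq) (htriv z hz y hy1)) hbT
    rw [Cert.E8.core.P_X_conj] at hfin
    have h0 := X_notMem commOK hTcl hwpos (fun h => by
      rcases h with h | h
      · have := h.2; rw [hgw] at this; omega
      · have := h.2; rw [lev_eq, hlevw] at this; omega) hfin
    have hη : (Cert.E8.core.η j r : F2) * (Cert.E8.core.η j r : F2) = 1 := by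
      rw [← Int.cast_mul, Cert.E8.core.η_mul_self, Int.cast_one]
    rw [mul_one] at h0
    rw [h0, mul_zero] at hη
    exact zero_ne_one hη
  have hKB : K ≤ Cert.E8.core.US F2 Cert.E8.core.Pos := by
    rw [← borel_eq]
    refine le_trans le_sup_left (hM.le.trans ?_)
    rw [Cert.E8.core.parabolic_eq]
    refine sup_le le_rfl ((Subgroup.closure_le _).2 ?_)
    rintro g ⟨j, ⟨hj, hmem⟩, -⟩
    exact absurd hmem (hnone j)
  intro x hx
  exact hK1 ⟨hx, le_radical_of_le_pos hKB hnorm hx⟩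

end Cfsg.Agent.Lib.IterCores.E8
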