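import Cfsg.Agent.Lib.IterCores.Sequence

/-!
# Iterated cores along an abstract filtration
-/

set_option autoImplicit false

namespace Cfsg.Agent.Lib.IterCores

variable {Γ : Type*} [Group Γ]

/-- The hypotheses: `U` is a normal filtration of `P` whose terms are reached by the cores. -/
structure Tower (G P : Subgroup Γ) (n : Γ) (U : ℕ → Subgroup Γ) : Prop where
  hPG : P ≤ G
  hn : n ∈ G
  hnn : n * n = 1
  hnP : n ∉ P
  max : ∀ N : Subgroup Γ, P ≤ N → N ≤ G → n ∈ N ∨ N ≤ P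
  gen : ∀ N : Subgroup Γ, P ≤ N → n ∈ N → G ≤ N
  le : ∀ k, 1 ≤ k → U k ≤ P
  norm : ∀ k, 1 ≤ k → ∀ p ∈ P, ∀ x ∈ U k, p * x * p⁻¹ ∈ U k
  anti : ∀ k, 1 ≤ k → U (k + 1) ≤ U k
  lower : ∀ k, 1 ≤ k → ∀ x ∈ U (k + 1), n * x * n⁻¹ ∈ U k
  two : ∀ K : Subgroup Γ, K ≤ P → (∀ p ∈ P, ∀ x ∈ K, p * x * p⁻¹ ∈ K) →
    (∀ x ∈ K, n * x * n⁻¹ ∈ P) → K ≤ U 2
  succ : ∀ (K : Subgroup Γ) (k : ℕ), 2 ≤ k → K ≤ U k → (∀ p ∈ P, ∀ x ∈ K, p * x * p⁻¹ ∈ K) →
    (∀ x ∈ K, n * x * n⁻¹ ∈ U k) → K ≤ U (k + 1)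

variable {G P : Subgroup Γ} {n : Γ} {U : ℕ → Subgroup Γ}

namespace Tower

variable (T : Tower G P n U)
include T

theorem conj_conj (x : ↥G) :
    MulAut.conj (⟨n, T.hn⟩ : ↥G) (MulAut.conj (⟨n, T.hn⟩ : ↥G) x) = x := by
  have h : (⟨n, T.hn⟩ : ↥G) * ⟨n, T.hn⟩ = 1 := Subtype.ext T.hnn
  rw [← MulAut.mul_apply, ← map_mul, h, map_one, MulAut.one_apply]

theorem bounds (i : ℕ) (hi : 1 ≤ i) :
    (coreSeq (P.subgroupOf G) ((P.subgroupOf G).map (MulAut.conj (⟨n, T.hn⟩ : ↥G)).toMonoidHom) i).1 ≤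
        (U (i + 1)).subgroupOf G ∧
      (U (i + 1)).subgroupOf G ≤
        (coreSeq (P.subgroupOf G) ((P.subgroupOf G).map (MulAut.conj (⟨n, T.hn⟩ : ↥G)).toMonoidHom) i).1 := by
  have hφ := T.conj_conj
  set φ := MulAut.conj (⟨n, T.hn⟩ : ↥G) with hφdef
  set M := P.subgroupOf G with hM
  set A := fun i => (coreSeq M (M.map φ.toMonoidHom) i).1 with hA
  have hA0 : A 0 = M := rfl
  have hAs : ∀ i, A (i + 1) = coreIn M (A i ⊓ (A i).map φ.toMonoidHom) := fun i => by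
    show coreIn M ((coreSeq M (M.map φ.toMonoidHom) i).1 ⊓ (coreSeq M (M.map φ.toMonoidHom) i).2) = _
    rw [coreSeq_snd hφ]
  have hconj : ∀ (X : Subgroup ↥G) (x : ↥G), x ∈ X.map φ.toMonoidHom ↔ φ x ∈ X := by
    intro X x
    refine ⟨?_, fun h => ⟨φ x, h, hφ x⟩⟩
    rintro ⟨y, hy, rfl⟩
    show φ (φ y) ∈ X
    rwa [hφ]
  have hval : ∀ x : ↥G, ((φ x : ↥G) : Γ) = n * x * n⁻¹ := fun x => rfl
  have hnorm : ∀ (i : ℕ), ∀ p ∈ P, ∀ x ∈ (A (i + 1)).map G.subtype,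
      p * x * p⁻¹ ∈ (A (i + 1)).map G.subtype := by
    rintro i p hp _ ⟨x, hx, rfl⟩
    refine ⟨⟨p, T.hPG hp⟩ * x * ⟨p, T.hPG hp⟩⁻¹, ?_, rfl⟩
    show _ ∈ A (i + 1)
    rw [hAs i]
    exact coreIn_normal _ _ _ (show (⟨p, T.hPG hp⟩ : ↥G) ∈ M from hp) _ (hAs i ▸ hx)
  have hmem : ∀ (i : ℕ) x, x ∈ A (i + 1) → x ∈ M ∧ x ∈ A i ∧ φ x ∈ A i := by
    intro i x hx
    rw [hAs i] at hx
    have h := coreIn_le _ _ hx
    exact ⟨coreIn_le_left _ _ hx, h.1, (hconj _ x).1 h.2⟩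
  have hsubN : ∀ k, 1 ≤ k → ∀ p ∈ M, ∀ x ∈ (U k).subgroupOf G, p * x * p⁻¹ ∈ (U k).subgroupOf G :=
    fun k hk p hp x hx => T.norm k hk p hp x hx
  induction i, hi using Nat.le_induction with
  | base =>
    constructor
    · intro x hx
      refine T.two ((A 1).map G.subtype) ?_ (hnorm 0) ?_ ⟨x, hx, rfl⟩
      · rintro _ ⟨y, hy, rfl⟩
        exact (hmem 0 y hy).1
      · rintro _ ⟨y, hy, rfl⟩
        have h := hA0.le (hmem 0 y hy).2.2
        rwa [Subgroup.mem_subgroupOf, hval] at h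
    · show _ ≤ A 1
      rw [hAs 0, hA0]
      refine le_coreIn (fun x hx => T.le 2 (by norm_num) hx)
        (fun x hx => ⟨T.le 2 (by norm_num) hx, (hconj _ x).2 ?_⟩) (hsubN 2 (by norm_num))
      rw [Subgroup.mem_subgroupOf, hval]
      exact T.le 1 le_rfl (T.lower 1 le_rfl _ hx)
  | succ i hi ih =>
    constructor
    · intro x hx
      refine T.succ ((A (i + 1)).map G.subtype) (i + 1) (by omega) ?_ (hnorm i) ?_ ⟨x, hx, rfl⟩
      · rintro _ ⟨y, hy, rfl⟩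
        exact ih.1 (hmem i y hy).2.1
      · rintro _ ⟨y, hy, rfl⟩
        have h := ih.1 (hmem i y hy).2.2
        rwa [Subgroup.mem_subgroupOf, hval] at h
    · show _ ≤ A (i + 1)
      rw [hAs i]
      refine le_coreIn (fun x hx => T.le (i + 1 + 1) (by omega) hx)
        (fun x hx => ⟨ih.2 (T.anti (i + 1) (by omega) hx), (hconj _ x).2 ?_⟩) (hsubN _ (by omega))
      refine ih.2 ?_
      rw [Subgroup.mem_subgroupOf, hval]
      exact T.lower (i + 1) (by omega) _ hx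

/-- The data of a simple group with such a tower give an example of depth `d`. -/
theorem exists_example (hsimple : IsSimpleGroup ↥G) {d : ℕ} (hd : 1 ≤ d) (hne : U (d + 1) ≠ ⊥)
    (hbot : U (d + 2) = ⊥) :
    ∃ (M₁ M₂ : Subgroup ↥G) (g : ↥G) (A B : ℕ → Subgroup ↥G),
      IsCoatom M₁ ∧ M₂ = M₁.map (MulAut.conj g).toMonoidHom ∧ M₁ ≠ M₂ ∧ M₁.normalCore = ⊥ ∧
      A 0 = M₁ ∧ B 0 = M₂ ∧
      (∀ i, A (i + 1) = ((A i ⊓ B i).subgroupOf M₁).normalCore.map M₁.subtype) ∧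
      (∀ i, B (i + 1) = ((A i ⊓ B i).subgroupOf M₂).normalCore.map M₂.subtype) ∧
      A (d + 1) = ⊥ ∧ A d ≠ ⊥ := by
  set g : ↥G := ⟨n, T.hn⟩ with hg
  set M := P.subgroupOf G with hM
  have hgM : g ∉ M := T.hnP
  have hne' : M ≠ ⊤ := fun h => hgM (h ▸ Subgroup.mem_top g)
  have hmax : IsCoatom M := by
    refine ⟨hne', fun N hN => ?_⟩
    have hPN : P ≤ N.map G.subtype := fun x hx => ⟨⟨x, T.hPG hx⟩, hN.le hx, rfl⟩
    rcases T.max _ hPN (Subgroup.map_subtype_le N) with h | h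
    · refine eq_top_iff.2 fun x _ => ?_
      obtain ⟨y, hy, he⟩ := T.gen _ hPN h x.2
      rwa [show x = y from Subtype.ext he.symm]
    · exact absurd (fun x hx => h ⟨x, hx, rfl⟩) hN.not_ge
  have hcore : M.normalCore = ⊥ := by
    rcases (Subgroup.normalCore_normal M).eq_bot_or_eq_top with h | h
    · exact h
    · exact absurd (top_le_iff.1 (h ▸ Subgroup.normalCore_le M)) hne'
  have hnorm : Subgroup.normalizer (M : Set ↥G) = M := by
    rcases eq_or_lt_of_le (Subgroup.le_normalizer (H := M)) with h | h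
    · exact h.symm
    · have := Subgroup.normalizer_eq_top_iff.1 (hmax.2 _ h)
      rw [Subgroup.normalCore_eq_self M] at hcore
      exact absurd (fun x hx => (T.le (d + 1) (by omega)) hx)
        (fun hle : U (d + 1) ≤ P => hne (eq_bot_iff.2 fun x hx => by
          have h1 : (⟨x, T.hPG (hle hx)⟩ : ↥G) ∈ M := hle hx
          rw [hcore, Subgroup.mem_bot] at h1
          exact congrArg Subtype.val h1))
  refine ⟨M, M.map (MulAut.conj g).toMonoidHom, g,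
    fun i => (coreSeq M (M.map (MulAut.conj g).toMonoidHom) i).1,
    fun i => (coreSeq M (M.map (MulAut.conj g).toMonoidHom) i).2,
    hmax, rfl, ?_, hcore, rfl, rfl, fun i => rfl, fun i => rfl, ?_, ?_⟩
  · intro he
    refine hgM (hnorm.le ?_)
    rw [Subgroup.mem_normalizer_iff]
    intro x
    refine ⟨fun hx => ?_, fun hx => ?_⟩
    · show MulAut.conj g x ∈ M
      rw [he]; exact ⟨x, hx, rfl⟩
    · have hx' : MulAut.conj g x ∈ M.map (MulAut.conj g).toMonoidHom := by rw [← he]; exact hx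
      obtain ⟨y, hy, e⟩ := hx'
      rwa [← (MulAut.conj g).injective e]
  · refine le_bot_iff.1 ((T.bounds (d + 1) (by omega)).1.trans ?_)
    rw [show d + 1 + 1 = d + 2 from rfl, hbot, Subgroup.bot_subgroupOf]
  · intro h0
    refine hne (eq_bot_iff.2 fun x hx => ?_)
    have h1 := (T.bounds d hd).2 (show (⟨x, T.hPG (T.le _ (by omega) hx)⟩ : ↥G) ∈ _ from hx)
    rw [show (coreSeq M (M.map (MulAut.conj g).toMonoidHom) d).1 = ⊥ from h0] at h1
    exact congrArg Subtype.val (Subgroup.mem_bot.1 h1)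

end Tower

end Cfsg.Agent.Lib.IterCores
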