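import Cfsg.Agent.Lib.IterCores.E8Cores
import Cfsg.Agent.Lib.IterCores.Tower

/-!
# The tower of the branch-node parabolic of `E8(2)`
-/

set_option autoImplicit false
set_option maxRecDepth 100000

namespace Cfsg.Agent.Lib.IterCores.E8

open Cfsg.Lie Cfsg.Agent.Lib.ChevStructure Cfsg.Agent.Lib.IterCores
open scoped MatrixGroups Matrix

theorem max_or {N : Subgroup (GL chevE8.Idx F2)} (hP : PP ≤ N) (hG : N ≤ chevE8.group F2) :
    n0 ∈ N ∨ N ≤ PP := by
  by_cases hj : n0 ∈ N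
  · exact Or.inl hj
  refine Or.inr ?_
  rw [commOK.eq_parabolic_of_borel_le ((Cert.E8.core.borel_le_parabolic J).trans hP) hG,
    Cert.E8.core.parabolic_eq]
  refine sup_le (Cert.E8.core.borel_le_parabolic J) ((Subgroup.closure_le _).2 ?_)
  rintro _ ⟨j, ⟨_, hj'⟩, rfl⟩
  exact Cert.E8.core.P_mem_parabolic (val_ne fun e => hj (by subst e; exact hj'))

theorem gen_top {N : Subgroup (GL chevE8.Idx F2)} (hP : PP ≤ N) (hn : n0 ∈ N) :
    chevE8.group F2 ≤ N := by
  refine Cert.E8.core.group_le (posUS_le_PP.trans hP) fun i => ?_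
  by_cases hi : i = j0
  · subst hi; exact hn
  · exact hP (Cert.E8.core.P_mem_parabolic (val_ne hi))

theorem tower : Tower (chevE8.group F2) PP n0 (fun k : ℕ => UU (k : ℤ)) where
  hPG := Cert.E8.core.parabolic_le_group J
  hn := Cert.E8.core.P_mem_group j0
  hnn := P_mul_self j0
  hnP := n0_notMem
  max _ hP hG := max_or hP hG
  gen _ hP hn := gen_top hP hn
  le k _ := (UU_le_pos (k : ℤ)).trans posUS_le_PP
  norm k hk p hp x hx :=
    (Subgroup.mem_normalizer_iff.1 (PP_le_normalizer (k := (k : ℤ)) (by omega) hp) x).1 hx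
  anti k _ := UU_anti (by push_cast; omega)
  lower k hk x hx := by
    refine UU_anti ?_ (n0_conj_UU (k := ((k + 1 : ℕ) : ℤ)) (by omega) hx)
    omega
  two K hK hn hc := by
    exact_mod_cast le_UU_two hK hn hc
  succ K k hk hle hn hc := by
    have h := le_UU_succ (K := K) (k := (k : ℤ)) (by omega) hle hn (fun h => absurd h (by omega))
      (fun _ => hc)
    exact_mod_cast h

theorem simple : IsSimpleGroup ↥(chevE8.group F2) := (simple_big chevE8 (by simp) (K := F2)).1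

theorem exists_depth_five :
    ∃ (M₁ M₂ : Subgroup ↥(chevE8.group F2)) (g : ↥(chevE8.group F2))
      (A B : ℕ → Subgroup ↥(chevE8.group F2)),
      IsCoatom M₁ ∧ M₂ = M₁.map (MulAut.conj g).toMonoidHom ∧ M₁ ≠ M₂ ∧ M₁.normalCore = ⊥ ∧
      A 0 = M₁ ∧ B 0 = M₂ ∧
      (∀ i, A (i + 1) = ((A i ⊓ B i).subgroupOf M₁).normalCore.map M₁.subtype) ∧
      (∀ i, B (i + 1) = ((A i ⊓ B i).subgroupOf M₂).normalCore.map M₂.subtype) ∧
      A 6 = ⊥ ∧ A 5 ≠ ⊥ :=
  tower.exists_example simple (d := 5) (by norm_num) (by exact_mod_cast UU_six_ne_bot)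
    (by exact_mod_cast UU_seven (k := 7) le_rfl)

end Cfsg.Agent.Lib.IterCores.E8
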