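import Cfsg.Agent.Lib.ChevStructure.Parabolic

/-!
# Gradings of the positive roots and the coefficient of a root in a unipotent element

For a linear grading `gr` of the roots, tools to show that the coefficient of a root vanishes in an
element of a graded piece of the unipotent group, used for iterated cores of parabolic subgroups.
-/

set_option autoImplicit false
set_option linter.unusedSectionVars false

namespace Cfsg.Agent.Lib.IterCores

open Cfsg.Lie Cfsg.Agent.Lib.ChevStructure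
open scoped MatrixGroups Matrix

variable {D : ChevalleyDatum} (C : Core D)

/-- A set of positive roots closed under positive combinations. -/
def ClosedPos (S : Set (Rt D)) : Prop :=
  S ⊆ C.Pos ∧ ∀ r ∈ S, ∀ s ∈ S, ∀ (q : Rt D) (i j : ℕ), 1 ≤ i → 1 ≤ j →
    C.v q = (i : ℤ) • C.v r + (j : ℤ) • C.v s → q ∈ S

/-- The linear grading with weights `ω` on the fundamental roots. -/
def gr (ω : Fin D.rank → ℤ) (r : Rt D) : ℤ := ∑ m, C.v r m * ω m

/-- The positive roots of grade at least `c`. -/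
def above (ω : Fin D.rank → ℤ) (c : ℤ) : Set (Rt D) := {r | r ∈ C.Pos ∧ c ≤ gr C ω r}

theorem gr_combo (ω : Fin D.rank → ℤ) {q r s : Rt D} {i j : ℤ} (h : C.v q = i • C.v r + j • C.v s) :
    gr C ω q = i * gr C ω r + j * gr C ω s := by
  simp only [gr, h, Finset.mul_sum, ← Finset.sum_add_distrib, Pi.add_apply, Pi.smul_apply, smul_eq_mul]
  exact Finset.sum_congr rfl fun m _ => by ring

theorem gr_w (ω : Fin D.rank → ℤ) (i : Fin D.rank) (r : Rt D) :
    gr C ω (C.w i r) = gr C ω r - A D i r * ω i := by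
  classical
  simp only [gr, C.v_w, Pi.sub_apply, Pi.smul_apply, smul_eq_mul, sub_mul, Finset.sum_sub_distrib]
  simp [Pi.single_apply, mul_ite, ite_mul]

theorem gr_p (ω : Fin D.rank → ℤ) (i : Fin D.rank) : gr C ω (C.p i) = ω i := by
  classical
  simp [gr, C.v_p, Pi.single_apply, ite_mul]

theorem gr_single (j0 : Fin D.rank) (r : Rt D) : gr C (Pi.single j0 1) r = C.v r j0 := by
  classical
  simp [gr, Pi.single_apply, mul_ite]

theorem gr_nonneg {ω : Fin D.rank → ℤ} (hω : ∀ m, 0 ≤ ω m) {r : Rt D} (hr : r ∈ C.Pos) :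
    0 ≤ gr C ω r :=
  Finset.sum_nonneg fun m _ => mul_nonneg (C.v_nonneg hr m) (hω m)

theorem closedPos_pos : ClosedPos C C.Pos := by
  refine ⟨subset_rfl, fun r hr s hs q i j hi hj hv => ?_⟩
  rw [C.pos_iff_ht, C.ht_combo hv]
  have := mul_pos (show (0 : ℤ) < j by omega) (C.ht_pos hs)
  have := mul_nonneg (show (0 : ℤ) ≤ i by omega) (C.ht_pos hr).le
  omega

theorem closedPos_above (ω : Fin D.rank → ℤ) {c : ℤ} (hc : 0 ≤ c) : ClosedPos C (above C ω c) := by
  refine ⟨fun r hr => hr.1, fun r hr s hs q i j hi hj hv =>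
    ⟨(closedPos_pos C).2 r hr.1 s hs.1 q i j hi hj hv, ?_⟩⟩
  rw [gr_combo C ω hv]
  have h1 : (i : ℤ) * c ≤ i * gr C ω r := mul_le_mul_of_nonneg_left hr.2 (by omega)
  have h2 : (j : ℤ) * c ≤ j * gr C ω s := mul_le_mul_of_nonneg_left hs.2 (by omega)
  have h3 : 1 * c ≤ (i : ℤ) * c := mul_le_mul_of_nonneg_right (by omega) hc
  have h4 : 0 ≤ (j : ℤ) * c := mul_nonneg (by omega) hc
  omega

theorem closedPos_above_diff (ω : Fin D.rank → ℤ) {c : ℤ} (hc : 1 ≤ c) {r₀ : Rt D}
    (h0 : gr C ω r₀ ≤ c) : ClosedPos C (above C ω c \ {r₀}) := by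
  refine ⟨fun r hr => hr.1.1, fun r hr s hs q i j hi hj hv =>
    ⟨(closedPos_above C ω (by omega)).2 r hr.1 s hs.1 q i j hi hj hv, ?_⟩⟩
  rintro rfl
  rw [gr_combo C ω hv] at h0
  have h1 : (i : ℤ) * c ≤ i * gr C ω r := mul_le_mul_of_nonneg_left hr.1.2 (by omega)
  have h2 : (j : ℤ) * c ≤ j * gr C ω s := mul_le_mul_of_nonneg_left hs.1.2 (by omega)
  have h3 : 1 * c ≤ (i : ℤ) * c := mul_le_mul_of_nonneg_right (by omega) (by omega)
  have h4 : 1 * c ≤ (j : ℤ) * c := mul_le_mul_of_nonneg_right (by omega) (by omega)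
  omega

variable {C} (H : CommOK C) {F : Type*} [Field F]
include H

open Classical in
theorem exists_coef {S : Set (Rt D)} (hS : ClosedPos C S) {x : GL D.Idx F} (hx : x ∈ C.US F S) :
    ∃ t : Rt D → F, (∀ r, r ∉ S → t r = 0) ∧ x = C.wordX F C.posL t := by
  let L := C.posL.filter (fun r => decide (r ∈ S))
  have hL : ∀ r, r ∈ L ↔ r ∈ S := fun r => by
    simp only [L, List.mem_filter, decide_eq_true_eq, C.mem_posL]
    exact ⟨And.right, fun h => ⟨hS.1 h, h⟩⟩
  obtain ⟨t, rfl⟩ := H.exists_word (R := F) (L := L) (C.posL_sorted.filter _)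
    (fun r hr => hS.1 ((hL r).1 hr))
    (fun r hr s hs q i j hi hj hv => (hL q).2 (hS.2 r ((hL r).1 hr) s ((hL s).1 hs) q i j hi hj hv))
    (g := x) (by
      have : {r | r ∈ L} = S := Set.ext hL
      rw [this]; exact hx)
  refine ⟨fun r => if r ∈ S then t r else 0, fun r hr => if_neg hr, ?_⟩
  show C.wordX F L t = _
  simp only [L]
  induction C.posL with
  | nil => rfl
  | cons a M ih =>
    simp only [Core.wordX, List.map_cons, List.prod_cons] at ih ⊢
    by_cases ha : a ∈ S
    · rw [List.filter_cons_of_pos (by simp [ha]), List.map_cons, List.prod_cons, ih, if_pos ha]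
    · rw [List.filter_cons_of_neg (by simp [ha]), ih, if_neg ha, C.X_zero, one_mul]

omit H in
theorem wordX_mem_of_support {T : Set (Rt D)} {t : Rt D → F} (h : ∀ r, r ∉ T → t r = 0) :
    C.wordX F C.posL t ∈ C.US F T := by
  refine list_prod_mem fun g hg => ?_
  rw [List.mem_map] at hg
  obtain ⟨r, -, rfl⟩ := hg
  by_cases hr : r ∈ T
  · exact C.X_mem_US F hr _
  · rw [h r hr, C.X_zero]; exact one_mem _

/-- Root elements outside a closed set of positive roots are outside its group. -/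
theorem X_notMem {S : Set (Rt D)} (hS : ClosedPos C S) {r : Rt D} (hr : r ∈ C.Pos) (hrS : r ∉ S)
    {u : F} (hu : C.X F r u ∈ C.US F S) : u = 0 := by
  classical
  obtain ⟨t, ht, e⟩ := exists_coef H hS hu
  have e1 : C.X F r u = C.wordX F C.posL (fun q => if q = r then u else 0) := by
    have hnd : C.posL.Nodup := C.posL_sorted.imp fun h => ne_of_lt h
    have hmem : r ∈ C.posL := C.mem_posL.2 hr
    revert hnd hmem
    induction C.posL with
    | nil => intro _ h; simp at h
    | cons a M ih =>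
      intro hnd hmem
      simp only [Core.wordX, List.map_cons, List.prod_cons] at ih ⊢
      obtain ⟨haM, hndM⟩ := List.nodup_cons.1 hnd
      by_cases ha : a = r
      · subst ha
        rw [if_pos rfl, List.prod_eq_one, mul_one]
        intro g hg
        rw [List.mem_map] at hg
        obtain ⟨q, hq, rfl⟩ := hg
        rw [if_neg (fun e => haM (by rw [← e]; exact hq)), C.X_zero]
      · rw [if_neg ha, C.X_zero, one_mul]
        exact ih hndM ((List.mem_cons.1 hmem).resolve_left fun e => ha e.symm)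
  have h := C.wordX_unique F C.posL_sorted (fun q hq => C.mem_posL.1 hq) (e1.symm.trans e) r
    (C.mem_posL.2 hr)
  rw [ht r hrS, if_pos rfl] at h
  exact h

/-- An element whose coefficients vanish at all roots of `R` lies in the group of the other roots. -/
theorem mem_US_diff {S : Set (Rt D)} (hS : ClosedPos C S) {R : Set (Rt D)}
    (hR : ∀ r ∈ R, r ∈ S → ClosedPos C (S \ {r})) {x : GL D.Idx F} (hx : x ∈ C.US F S)
    (h : ∀ r ∈ R, r ∈ S → x ∈ C.US F (S \ {r})) : x ∈ C.US F (S \ R) := by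
  obtain ⟨t, ht, rfl⟩ := exists_coef H hS hx
  refine wordX_mem_of_support fun r hr => ?_
  by_cases hrS : r ∈ S
  · have hrR : r ∈ R := by
      by_contra hc; exact hr ⟨hrS, hc⟩
    obtain ⟨u, hu, e⟩ := exists_coef H (hR r hrR hrS) (h r hrR hrS)
    rw [C.wordX_unique F C.posL_sorted (fun q hq => C.mem_posL.1 hq) e r (C.mem_posL.2 (hS.1 hrS))]
    exact hu r fun hc => hc.2 rfl
  · exact ht r hrS

/-- Splitting off one root. -/
theorem exists_split {S : Set (Rt D)} (hS : ClosedPos C S) {r : Rt D} (hr : r ∈ S)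
    {x : GL D.Idx F} (hx : x ∈ C.US F S) :
    ∃ (A : GL D.Idx F) (t : F) (B : GL D.Idx F),
      A ∈ C.US F (S \ {r}) ∧ B ∈ C.US F (S \ {r}) ∧ x = A * C.X F r t * B := by
  obtain ⟨t, ht, rfl⟩ := exists_coef H hS hx
  obtain ⟨L₁, L₂, e⟩ := List.append_of_mem (C.mem_posL.2 (hS.1 hr))
  have hnd : (L₁ ++ r :: L₂).Nodup := by
    rw [← e]; exact C.posL_sorted.imp fun h => ne_of_lt h
  have key : ∀ M : List (Rt D), r ∉ M → C.wordX F M t ∈ C.US F (S \ {r}) := by
    intro M hM
    refine list_prod_mem fun g hg => ?_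
    rw [List.mem_map] at hg
    obtain ⟨q, hq, rfl⟩ := hg
    by_cases hqS : q ∈ S
    · exact C.X_mem_US F (S := S \ {r}) ⟨hqS, fun h => hM ((Set.mem_singleton_iff.1 h) ▸ hq)⟩ _
    · rw [ht q hqS, C.X_zero]; exact one_mem _
  refine ⟨C.wordX F L₁ t, t r, C.wordX F L₂ t, key L₁ ?_, key L₂ ?_, ?_⟩
  · exact fun h => (List.nodup_append.1 hnd).2.2 _ h _ (List.mem_cons_self ..) rfl
  · exact (List.nodup_cons.1 (List.nodup_append.1 hnd).2.1).1
  · rw [e, Core.wordX, List.map_append, List.prod_append, List.map_cons, List.prod_cons, mul_assoc]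
    rfl

omit H in
theorem conj_P_mem {S T : Set (Rt D)} (j : Fin D.rank) (hST : ∀ r ∈ S, C.w j r ∈ T)
    {x : GL D.Idx F} (hx : x ∈ C.US F S) : C.P F j * x * (C.P F j)⁻¹ ∈ C.US F T := by
  have hle : C.US F S ≤ (C.US F T).comap (MulAut.conj (C.P F j)).toMonoidHom := by
    refine (Subgroup.closure_le _).2 ?_
    rintro g ⟨r, hr, t, rfl⟩
    show C.P F j * C.X F r t * (C.P F j)⁻¹ ∈ C.US F T
    rw [C.P_X_conj]
    exact C.X_mem_US F (hST r hr) _
  exact hle hx

/-- If a conjugate of `x` under a fundamental reflection avoids a root, the coefficient of `x` at the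
reflected root is zero. -/
theorem mem_diff_of_conj {S T : Set (Rt D)} (hS : ClosedPos C S) {r : Rt D} (hr : r ∈ S)
    (j : Fin D.rank) (hT : ClosedPos C T) (hrT : C.w j r ∉ T) (hw : C.w j r ∈ C.Pos)
    (hST : ∀ q ∈ S, q ≠ r → C.w j q ∈ T) {x : GL D.Idx F} (hx : x ∈ C.US F S)
    (hxc : C.P F j * x * (C.P F j)⁻¹ ∈ C.US F T) : x ∈ C.US F (S \ {r}) := by
  obtain ⟨A, t, B, hA, hB, rfl⟩ := exists_split H hS hr hx
  have hA' := conj_P_mem j (fun q hq => hST q hq.1 hq.2) hA
  have hB' := conj_P_mem j (fun q hq => hST q hq.1 hq.2) hB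
  have h1 : C.P F j * C.X F r t * (C.P F j)⁻¹ ∈ C.US F T := by
    have h2 := mul_mem (mul_mem (inv_mem hA') hxc) (inv_mem hB')
    convert h2 using 1
    group
  rw [C.P_X_conj] at h1
  have h0 := X_notMem H hT hw hrT h1
  have hη : (C.η j r : F) * (C.η j r : F) = 1 := by rw [← Int.cast_mul, C.η_mul_self, Int.cast_one]
  have ht : t = 0 := by linear_combination (C.η j r : F) * h0 - t * hη
  rw [ht, C.X_zero, mul_one]
  exact mul_mem hA hB

/-- The coefficient at a fundamental root vanishes as soon as the reflected element avoids the opposite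
root subgroup. -/
theorem mem_diff_simple {S : Set (Rt D)} (hS : ClosedPos C S) (j : Fin D.rank) (hr : C.p j ∈ S)
    (M : Subgroup (GL D.Idx F)) (hM : C.US F C.Pos ≤ M)
    (hneg : ∀ t : F, C.X F (C.p j).rev t ∈ M → t = 0) {x : GL D.Idx F} (hx : x ∈ C.US F S)
    (hxc : C.P F j * x * (C.P F j)⁻¹ ∈ M) : x ∈ C.US F (S \ {C.p j}) := by
  obtain ⟨A, t, B, hA, hB, rfl⟩ := exists_split H hS hr hx
  have hA' := hM (conj_P_mem j (T := C.Pos) (fun q hq => C.w_pos (hS.1 hq.1) hq.2) hA)
  have hB' := hM (conj_P_mem j (T := C.Pos) (fun q hq => C.w_pos (hS.1 hq.1) hq.2) hB)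
  have h1 : C.P F j * C.X F (C.p j) t * (C.P F j)⁻¹ ∈ M := by
    have h2 := mul_mem (mul_mem (inv_mem hA') hxc) (inv_mem hB')
    convert h2 using 1
    group
  rw [C.P_X_conj, C.w_p, C.η_p] at h1
  have h0 := hneg _ h1
  have ht : t = 0 := by simpa using h0
  rw [ht, C.X_zero, mul_one]
  exact mul_mem hA hB

end Cfsg.Agent.Lib.IterCores
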