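import Mathlib

/-!
# Iterated cores of two subgroups interchanged by an involution
-/

set_option autoImplicit false

namespace Cfsg.Agent.Lib.IterCores

variable {G : Type*} [Group G]

/-- The largest subgroup of `X ⊓ M` normalised by `M`. -/
def coreIn (M X : Subgroup G) : Subgroup G := (X.subgroupOf M).normalCore.map M.subtype

theorem coreIn_le (M X : Subgroup G) : coreIn M X ≤ X := by
  rintro _ ⟨y, hy, rfl⟩
  exact Subgroup.mem_subgroupOf.1 (Subgroup.normalCore_le (X.subgroupOf M) hy)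

theorem coreIn_le_left (M X : Subgroup G) : coreIn M X ≤ M := by
  rintro _ ⟨y, -, rfl⟩
  exact y.2

theorem coreIn_normal (M X : Subgroup G) : ∀ p ∈ M, ∀ x ∈ coreIn M X, p * x * p⁻¹ ∈ coreIn M X := by
  rintro p hp _ ⟨y, hy, rfl⟩
  exact ⟨⟨p, hp⟩ * y * ⟨p, hp⟩⁻¹, (Subgroup.normalCore_normal (X.subgroupOf M)).conj_mem y hy _, rfl⟩

theorem le_coreIn {M X K : Subgroup G} (hKM : K ≤ M) (hKX : K ≤ X)
    (hn : ∀ p ∈ M, ∀ x ∈ K, p * x * p⁻¹ ∈ K) : K ≤ coreIn M X := by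
  have : (K.subgroupOf M).Normal := ⟨fun x hx p => hn p p.2 x hx⟩
  intro x hx
  have h : K.subgroupOf M ≤ (X.subgroupOf M).normalCore :=
    Subgroup.normal_le_normalCore.2 fun y hy => hKX hy
  exact ⟨⟨x, hKM hx⟩, h (show (⟨x, hKM hx⟩ : M) ∈ K.subgroupOf M from hx), rfl⟩

/-- The two sequences of iterated cores. -/
def coreSeq (M₁ M₂ : Subgroup G) : ℕ → Subgroup G × Subgroup G
  | 0 => (M₁, M₂)
  | i + 1 => (coreIn M₁ ((coreSeq M₁ M₂ i).1 ⊓ (coreSeq M₁ M₂ i).2),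
      coreIn M₂ ((coreSeq M₁ M₂ i).1 ⊓ (coreSeq M₁ M₂ i).2))

theorem map_coreIn_le (φ : G ≃* G) (M X : Subgroup G) :
    (coreIn M X).map φ.toMonoidHom ≤ coreIn (M.map φ.toMonoidHom) (X.map φ.toMonoidHom) := by
  refine le_coreIn (Subgroup.map_mono (coreIn_le_left M X)) (Subgroup.map_mono (coreIn_le M X)) ?_
  rintro _ ⟨p, hp, rfl⟩ _ ⟨x, hx, rfl⟩
  exact ⟨p * x * p⁻¹, coreIn_normal M X p hp x hx, by simp⟩

theorem map_map_of_sq {φ : G ≃* G} (hφ : ∀ x, φ (φ x) = x) (X : Subgroup G) :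
    (X.map φ.toMonoidHom).map φ.toMonoidHom = X := by
  rw [Subgroup.map_map]
  convert Subgroup.map_id X using 2
  ext x
  exact hφ x

theorem map_coreIn {φ : G ≃* G} (hφ : ∀ x, φ (φ x) = x) (M X : Subgroup G) :
    (coreIn M X).map φ.toMonoidHom = coreIn (M.map φ.toMonoidHom) (X.map φ.toMonoidHom) := by
  refine le_antisymm (map_coreIn_le φ M X) ?_
  have h := Subgroup.map_mono (f := φ.toMonoidHom)
    (map_coreIn_le φ (M.map φ.toMonoidHom) (X.map φ.toMonoidHom))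
  rwa [map_map_of_sq hφ, map_map_of_sq hφ, map_map_of_sq hφ] at h

theorem coreSeq_snd {φ : G ≃* G} (hφ : ∀ x, φ (φ x) = x) (M : Subgroup G) (i : ℕ) :
    (coreSeq M (M.map φ.toMonoidHom) i).2 =
      (coreSeq M (M.map φ.toMonoidHom) i).1.map φ.toMonoidHom := by
  induction i with
  | zero => rfl
  | succ i ih =>
    simp only [coreSeq]
    rw [ih, map_coreIn hφ, Subgroup.map_inf_eq _ _ _ φ.injective, map_map_of_sq hφ,
      inf_comm ((coreSeq M (M.map φ.toMonoidHom) i).1.map φ.toMonoidHom)]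

end Cfsg.Agent.Lib.IterCores
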